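import Cfsg.Agent.Lib.BitNetGroup
import Cfsg.Agent.H714.DG.Top_m3
import Cfsg.Agent.H707.RowTitsModel
import Cfsg.Agent.Lib.FinFast
import Cfsg.Agent.Prune
set_option linter.all false
prune_inst 0x7f00000000000000000000000000000000000000000000000000000000000000000000000000000000000000000000000000000000000000000000000000000000000000000000000000000000000000003fffffffffffffffffffffffffffbeffbdffffffff
open scoped Cfsg.Agent.FastGrp

-- part: H805/K4/TitsData
section
set_option autoImplicit false

/-!
Data for the Tits group (helper805): the suborbits of the point 3511 in its orbit `s2` of length 2304 (numbering of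
`Cfsg.Agent.SporadicB.RuData`), as masks.
-/

namespace Cfsg.Agent.H805.K4.TitsData

def y78 : ℕ := 0x40000000000000020000000000000000000200000010000000000000000000000000000001008000004000000000000000000000000000000000004000000200000200000000000088400000008000000000000040000000000000000000148000000080000000080000000000000000022000000000010080000000002000000000000008000000000000000000108000000000800000040000000000000000000000000000000000000000000000000010000000400000800080000000000000000000000040000020000000000000004000000000000000000000000000000208400000040000000000000000000000000000000200000100020004000000000004000000000000000000040000000000000200000000000000000000000000000000000000100000000000008200800000000000000000400000201000000000000000010002000000000000000000000000000000800004000000000000020000000000100000000000000000008000000020000000000001000a00000000002000000000000000000041000000000000000000800000040080000000000000000008000020000000100000000000000000000000000000000000800000080000000000000000000000000000000000000000000000000000000000000000000020000000000000000000000000000000000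

def y300a : ℕ := 0x440000000040a000800890022000001084080010080010000005800048100080100202003100000c0000004000000000000000000040800001520001000800042000000000020200000286008400010000400000000880000000400000108020000c0000080002020400000001000000000000440000209800004040000012000000000000000140001108000000000000000004080000000001000800000100000000000800100000100004408004800000000060000102010010004004200120000020800200000100400000280010008000002a9000090000140002000040200000000000208002000020000000000004100002a048002010100140300000000404000020000000008800080040000800000000001005000000000000000082000300000040012220410200001210000100000000052009200001000080000500100000000000050a0000004000000200000b4002404000c0202106800440000080410400000000210001080e0000000000100c040030000020004000000100090010000000108816000000120000000000002000800400101000040020000d00202040020800001001001000008002000002084089000004100000202000010002000004005000000000004090000110004000500008000880048000000d022000080000100000004000040000024080000000088000008000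

def y300b : ℕ := 0x110804000000000005000080000800000080002000080000000022002200204020000000140000000885a000000002001a0000080000050000008004810000021220000400002000000004000080100000282000400005400000b040080406004085100000a0100200041000000000108000a000041800090100001000000000000001010000820102000028000300c8000840000202040008100001000800000010800000001204000040081000000292400000000000000808000000050000100200100000010000022800020028000040000000000000400000000020000a030480000000080040c00000040040000000008000004000210000060000000000000000000040800000020000080000080200804400100102000000a22808000200110000020000008440200000020000800802000008104002000084000000080000020108002000000800005000001004000001050010000400210000018000002000cb0000000200020000100c80120000000820008013100100100000200000001022000000000104800040000048000800000000c0808000002000000000020000000004008620000120200020000200000000014000020000000400400040020000400050000022000001504000000000000004220300a002500400800210000001000800002010100080000800404000000000340000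

def y325a : ℕ := 0x8002808000000020082008000002420002c40000062900000000280800018000004080080000120008000000400000005400000010000d0008004000000000200000048020800100000008004000000200118000000445008000200000844100000000850400400001208040240002240a410000004040004084000080280000060200002805000000000040000000001001900004000100001001000020000000a10400000400802202010803000010000000c08000400020000000005080001120a00020000024008000040000000000200400000000000000080000100c0400600200000009006001200012210001002000000800200000080120000001000040000408914000000000040080000000408080000200000008000000000100440100000414000401040000020a0000000008414000024080004008002000000284000288087000100000440080000008800000010000040000009000000008200010004800080200008000000062a0100000000020400400080016a0804004004400000440000060000400410100804410088200020002040000080000400800000005000080000020000820900820000004000004000000200000000000c00803008090000002800026080020002c00200000040004000010211040010200000000000040400041000000008000888000000040000000000904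

def y325b : ℕ := 0xc44082000020020424000008400000001480000000101080000008200400800000000000020000504000000740000a82082880008000a80008040a010200000000004000400800001402003002000000c00000201000030801000002000404100100000a0018000001000000040002400010000008000000020a040000000004009000000200008048000000100800032422080002412000002000440000040400200208080000001001000000000800000001401000004402420940000100002004000800d001000201000004241000800000000110040080002012000000000800200804004000201100040800000030008400002000100009a00010004001040000000000448000001020000008010002a0008240004010008d108c00000004000000301000002000000800100440040a0000010800000000000000010800000002004010140000a81002000001000000400a000200000000a1004000000042502001012010010002000400000008000004001040008800100020010c0000008028100400010000000008000101100400000a00400000000200080000000028002000010000000040100001000800080000010000200020400000480080000080002001000000218140001600000440000000000201004004300240000000884000400280000000800800000000140080030000890000400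

def y975 : ℕ := 0xa320011125bad404a041005914028042240221462501046e21720460000842450a6146070c202050010002000808825e80245401100041230508c323400060c085c001121004020469104304000074420ee00141714222252080c0200060000911091000a40010404088569845280004a002eea132a10010010100f082c814096081d720002300625e088113010c29820060c0081224180009ba24410201b061c2a02097f0128600880009280a4230224290d900400a80090588401400aa010004000008c411c5252000000021000848000048180c542e8728120c00850c412b100805039045e104311a018480c1038b8a18840a61002800758404a44880292202b001189504a20a2240b04c0c008b023002410040c80894000504500200400401140302a03a08058084108b848148c4d11a414100090000140809430b8003e626041a04c4022828000a555106d0c0261002870002c44021008200900002312a001a0408832200090a2c8501860008140046052a4035200ca0464488005208a00882244082a8991c4002078b02040296c8a05120403004028006a2200214a9170a0300cc08489068802408046404084141010209c612a306090c801ea228a0a110030104408b90a042a0440802a060c00800207a4108938430d0040003c0a41c211c02800c08e809182000364202728250227b48c002067280a5202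

end Cfsg.Agent.H805.K4.TitsData
end

-- part: H805/K4/Tits
section
/-!
# The Tits group: characters of the degrees 27, 351, 675 (helper805)

Three irreducible characters of the degrees 27, 351, 675 (all divisible by `27`, the full power of `3`): the first one is
a constituent of the permutation character on 2304 points (rank 7, a complex eigenvalue of an orbital of valency 300),
the others of the one on 1755 points (rank 5, the orbital of valency 10).
-/

set_option autoImplicit false
set_option maxRecDepth 100000
set_option exponentiation.threshold 5000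

namespace Cfsg.Agent.H805.K4.Tits

open Cfsg Cfsg.Agent.H805.K4.Bit Cfsg.Agent.H805.K4.TitsData
open Cfsg.Agent.SporadicB.RuData Cfsg.Agent.SporadicB.RuOrder Cfsg.Agent.SporadicB.RuTitsData
open Cfsg.Agent.SporadicB.RuTits
open Cfsg.Agent.Lib.BitNet Cfsg.Agent.Lib.BitNetSimple
open MulAction

instance : Finite T := Nat.finite_of_card_ne_zero (by rw [card_T]; norm_num)

/-! ### words -/

/-- the network of a word -/
def net : List ℕ → List (ℕ × ℕ)
  | [] => []
  | c :: w => gen c ++ net w

theorem mem_nil : Mem T [] := by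
  have ok : OkNet 4060 [] := ⟨fun p hp => absurd hp List.not_mem_nil, fun i => Iff.rfl⟩
  refine ⟨ok, ?_⟩
  have : perm ok = 1 := by
    apply Equiv.ext
    intro i
    apply Fin.ext
    rw [perm_apply]
    rfl
  rw [this]
  exact T.one_mem

theorem mem_gen (c : ℕ) : Mem T (gen c) := by
  unfold gen
  cases Nat.beq c 0
  · rw [cond_false]
    cases Nat.beq c 1
    · rw [cond_false]
      cases Nat.beq c 2
      · exact tmem1.reverse
      · exact tmem1
    · exact tmem0.reverse
  · exact tmem0

theorem mem_net (w : List ℕ) : Mem T (net w) := by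
  induction w with
  | nil => exact mem_nil
  | cons c w ih => exact (mem_gen c).append ih

/-- the permutation of a word -/
noncomputable def pw (w : List ℕ) : Equiv.Perm (Fin 4060) := perm (mem_net w).choose

theorem pw_mem (w : List ℕ) : pw w ∈ T := (mem_net w).choose_spec

theorem pw_apply (w : List ℕ) (x : Fin 4060) : ((pw w x : Fin 4060) : ℕ) = app (net w) x := perm_apply _ _

theorem pw_img (w : List ℕ) (m : ℕ) (x : Fin 4060) : (appMF (net w) m).testBit (pw w x) = m.testBit x := by
  rw [appMF_eq, pw_apply]
  exact testBit_appM (mem_net w).choose.valid m x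

/-- **Degrees.** -/
theorem deg {n : ℕ} (D : Orb T n) (c : Fin n) (B : Fin n → Fin n → ℕ) (k : Fin n → ℕ) (w : Fin n → List ℕ)
    (hw : ∀ i, Nat.beq (appF (net (w i)) D.p) (D.ry i) = true)
    (hB : ∀ i j, Nat.beq (popc 12 (Nat.land (appMF (net (w i)) (D.cm c)) (D.cm j))) (B i j) = true)
    (hk : ∀ j, Nat.beq (popc 12 (D.cm j)) (k j) = true)
    (hlt : ∀ j, Nat.blt (D.cm j) (Nat.pow 2 4060) = true)
    (a₁ a₂ : Fin n → ℚ) (t₁ t₂ : ℚ) (L₁ L₂ : Fin n → Fin n → ℚ) (hC : Cert B D.c0 a₁ a₂ t₁ t₂ L₁ L₂) (d M : ℕ)
    (hM : ∑ j, k j = M) (hd : (d : ℚ) * ∑ j, (k j : ℚ) * (a₁ j * a₁ j + a₂ j * a₂ j) = M) :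
    ∃ χ : IrrCharacter T, charDegree (χ : T → ℂ) = d := by
  refine exists_deg D (K := 12) (by norm_num) c B k (fun i => pw (w i)) (fun i => pw_mem _) (fun i => ?_)
    (fun i => appMF (net (w i)) (D.cm c)) (fun i x => pw_img _ _ x) hB hk hlt a₁ a₂ t₁ t₂ L₁ L₂ hC d M hM hd
  apply Fin.ext
  rw [pw_apply, ← appF_eq]
  exact Nat.eq_of_beq_eq_true (hw i)

/-! ### the orbit of length 2304 -/

/-- the base point -/
def q : Fin 4060 := ⟨3511, by norm_num⟩

def q2 : Fin 4060 := ⟨1114, by norm_num⟩

def q3 : Fin 4060 := ⟨1, by norm_num⟩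

def u0 : List (ℕ × ℕ) := x1 ++ (x0 ++ x1.reverse)
def u1 : List (ℕ × ℕ) := x0.reverse ++ (x1 ++ (x0 ++ (x1.reverse ++ x0.reverse)))
def v0 : List (ℕ × ℕ) := u1.reverse ++ u0.reverse
def v1 : List (ℕ × ℕ) := u0.reverse ++ u1.reverse

def S1 : Subgroup (Equiv.Perm (Fin 4060)) := T ⊓ stabilizer (Equiv.Perm (Fin 4060)) q

theorem ufix0 : Nat.beq (appF u0 3511) 3511 = true := by decide +kernel
theorem ufix1 : Nat.beq (appF u1 3511) 3511 = true := by decide +kernel

theorem umem0 : Mem S1 u0 := Mem.stab (tmem1.append (tmem0.append tmem1.reverse)) ufix0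
theorem umem1 : Mem S1 u1 :=
  Mem.stab (tmem0.reverse.append (tmem1.append (tmem0.append (tmem1.reverse.append tmem0.reverse)))) ufix1

/-- the subgroup generated by the two elements fixing `q` -/
def K : Subgroup (Equiv.Perm (Fin 4060)) := Subgroup.closure {perm umem0.1, perm umem1.1}

theorem K_le : K ≤ S1 := by
  rw [K, Subgroup.closure_le]
  rintro g (rfl | rfl)
  · exact umem0.2
  · exact umem1.2

theorem ku0 : Mem K u0 := ⟨umem0.1, Subgroup.subset_closure (Or.inl rfl)⟩
theorem ku1 : Mem K u1 := ⟨umem1.1, Subgroup.subset_closure (Or.inr rfl)⟩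

theorem gensK : ∀ g ∈ [u0, u1], Mem K g := by
  intro g hg
  simp only [List.mem_cons, List.not_mem_nil, or_false] at hg
  rcases hg with rfl | rfl
  exacts [ku0, ku1]

theorem gensS : ∀ g ∈ [u0, u1], Mem S1 g := by
  intro g hg
  simp only [List.mem_cons, List.not_mem_nil, or_false] at hg
  rcases hg with rfl | rfl
  exacts [umem0, umem1]

def K2 : Subgroup (Equiv.Perm (Fin 4060)) := K ⊓ stabilizer (Equiv.Perm (Fin 4060)) q2

theorem vfix0 : Nat.beq (appF v0 1114) 1114 = true := by decide +kernel
theorem vfix1 : Nat.beq (appF v1 1114) 1114 = true := by decide +kernel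

theorem kv0 : Mem K2 v0 := Mem.stab (ku1.reverse.append ku0.reverse) vfix0
theorem kv1 : Mem K2 v1 := Mem.stab (ku0.reverse.append ku1.reverse) vfix1

theorem gensK2 : ∀ g ∈ [v0, v1], Mem K2 g := by
  intro g hg
  simp only [List.mem_cons, List.not_mem_nil, or_false] at hg
  rcases hg with rfl | rfl
  exacts [kv0, kv1]

theorem orbT_Y : Nat.beq (iterF [x0, x1] 11 (Nat.pow 2 3511)) s2 = true := by decide +kernel
theorem popc_Y : Nat.ble 2304 (popc 12 s2) = true := by decide +kernel
theorem orbK : Nat.ble 300 (popc 12 (iterF [u0, u1] 11 (Nat.pow 2 1114))) = true := by decide +kernel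
theorem orbK2 : Nat.ble 26 (popc 12 (iterF [v0, v1] 7 (Nat.pow 2 1))) = true := by decide +kernel

theorem lowY : 2304 * Nat.card S1 ≤ Nat.card T := by
  refine lower_step' (L := 12) (k := 11) (b := q) gensT ?_
  have h := Nat.eq_of_beq_eq_true orbT_Y
  show Nat.ble 2304 (popc 12 (iterF [x0, x1] 11 (Nat.pow 2 3511))) = true
  rw [h]
  exact popc_Y

theorem lowK : 300 * Nat.card K2 ≤ Nat.card K := lower_step' (L := 12) (k := 11) gensK orbK
theorem lowK2 : 26 * Nat.card (K2 ⊓ stabilizer (Equiv.Perm (Fin 4060)) q3 : Subgroup (Equiv.Perm (Fin 4060))) ≤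
    Nat.card K2 := lower_step' (L := 12) (k := 7) gensK2 orbK2

theorem K_eq : K = S1 := by
  refine Subgroup.eq_of_le_of_card_ge K_le ?_
  have h1 := lowK
  have h2 := lowK2
  have h3 : 0 < Nat.card (K2 ⊓ stabilizer (Equiv.Perm (Fin 4060)) q3 : Subgroup (Equiv.Perm (Fin 4060))) := Nat.card_pos
  have h4 := lowY
  rw [card_T] at h4
  omega

/-- the masks of the classes -/
def cmY : Fin 7 → ℕ := ![Nat.pow 2 3511, y78, y300a, y300b, y325a, y325b, y975]

/-- the representatives -/
def ryY : Fin 7 → ℕ := ![3511, 1464, 2739, 2639, 365, 1597, 354]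

theorem ryY_lt : ∀ i, ryY i < 4060 := by decide

theorem cmY_inv0 : ∀ i, Nat.beq (appMF u0 (cmY i)) (cmY i) = true := by decide +kernel
theorem cmY_inv1 : ∀ i, Nat.beq (appMF u1 (cmY i)) (cmY i) = true := by decide +kernel
theorem cmY_disj : ∀ i j, i = j ∨ Nat.beq (Nat.land (cmY i) (cmY j)) 0 = true := by decide +kernel
theorem cmY_sub : ∀ i, Nat.beq (Nat.land (cmY i) s2) (cmY i) = true := by decide +kernel
theorem cmY_cover : Nat.beq (Nat.lor (cmY 0) (Nat.lor (cmY 1) (Nat.lor (cmY 2) (Nat.lor (cmY 3) (Nat.lor (cmY 4)
  (Nat.lor (cmY 5) (cmY 6))))))) s2 = true := by decide +kernel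
theorem ryY_mem : ∀ i, tb (cmY i) (ryY i) = true := by decide +kernel
theorem s2_inv0 : Nat.beq (appMF x0 s2) s2 = true := by decide +kernel
theorem s2_inv1 : Nat.beq (appMF x1 s2) s2 = true := by decide +kernel
theorem q_mem : tb s2 3511 = true := by decide +kernel

theorem orbY (i : Fin 7) : ∃ k, Nat.beq (iterF [u0, u1] k (Nat.pow 2 (ryY i))) (cmY i) = true := by
  fin_cases i
  · exact ⟨0, by decide +kernel⟩
  · exact ⟨6, by decide +kernel⟩
  · exact ⟨10, by decide +kernel⟩
  · exact ⟨10, by decide +kernel⟩
  · exact ⟨8, by decide +kernel⟩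
  · exact ⟨9, by decide +kernel⟩
  · exact ⟨12, by decide +kernel⟩

theorem class_unique {n : ℕ} {cm : Fin n → ℕ} (hd : ∀ i j, i = j ∨ Nat.beq (Nat.land (cm i) (cm j)) 0 = true)
    {i j : Fin n} {x : ℕ} (hi : (cm i).testBit x = true) (hj : (cm j).testBit x = true) : i = j := by
  rcases hd i j with h | h
  · exact h
  · exfalso
    have h := Nat.eq_of_beq_eq_true h
    have h2 : Nat.land (cm i) (cm j) = cm i &&& cm j := rfl
    rw [h2] at h
    have h1 : (cm i &&& cm j).testBit x = true := by rw [Nat.testBit_and, hi, hj]; rfl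
    rw [h, Nat.zero_testBit] at h1
    exact Bool.noConfusion h1

theorem sub_of {a m : ℕ} (h : Nat.beq (Nat.land a m) a = true) {x : ℕ} (hx : a.testBit x = true) :
    m.testBit x = true := by
  have h3 := Nat.eq_of_beq_eq_true h
  have h4 : Nat.land a m = a &&& m := rfl
  rw [h4] at h3
  rw [← h3, Nat.testBit_and, Bool.and_eq_true] at hx
  exact hx.2

/-- The orbit of length 2304. -/
def Y : Orb T 7 where
  m := s2
  p := q
  cm := cmY
  ry i := ⟨ryY i, ryY_lt i⟩
  c0 := 0
  m_inv := by
    intro g hg
    refine inv_closure ?_ hg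
    rintro g (rfl | rfl)
    · exact inv_of _ s2_inv0
    · exact inv_of _ s2_inv1
  trans := by
    intro x hx
    exact exists_of_iterF (b := q) gensT orbT_Y hx
  p_mem := by
    have := q_mem
    rwa [tb_eq] at this
  disj i j x hi hj := class_unique cmY_disj hi hj
  cover := by
    intro x h1
    have h := Nat.eq_of_beq_eq_true cmY_cover
    rw [← h] at h1
    have h2 : ∀ a b : ℕ, Nat.lor a b = a ||| b := fun _ _ => rfl
    simp only [h2, Nat.testBit_or, Bool.or_eq_true] at h1
    rcases h1 with h | h | h | h | h | h | h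
    exacts [⟨0, h⟩, ⟨1, h⟩, ⟨2, h⟩, ⟨3, h⟩, ⟨4, h⟩, ⟨5, h⟩, ⟨6, h⟩]
  sub i x hx := sub_of (cmY_sub i) hx
  c0_mem := by
    have := ryY_mem 0
    rwa [tb_eq] at this
  ry_mem i := by
    have := ryY_mem i
    rwa [tb_eq] at this
  inv := by
    intro g hg hq i x
    have h1 : g ∈ K := by
      rw [K_eq]
      exact ⟨hg, hq⟩
    refine inv_closure ?_ h1 x
    rintro g (rfl | rfl)
    · exact inv_of _ (cmY_inv0 i)
    · exact inv_of _ (cmY_inv1 i)
  orb := by
    intro i x hx
    obtain ⟨k, hk⟩ := orbY i
    obtain ⟨g, hg, hgx⟩ := exists_of_iterF (b := ⟨ryY i, ryY_lt i⟩) gensS hk hx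
    exact ⟨g, hg.1, hg.2, hgx⟩

def BY : Fin 7 → Fin 7 → ℕ := ![![0, 0, 300, 0, 0, 0, 0], ![0, 0, 0, 100, 50, 50, 100], ![0, 26, 26, 66, 13, 13, 156],
  ![1, 0, 26, 26, 78, 78, 91], ![0, 12, 72, 12, 36, 36, 132], ![0, 12, 72, 12, 36, 36, 132],
  ![0, 8, 28, 48, 44, 44, 128]]

def kY : Fin 7 → ℕ := ![1, 78, 300, 300, 325, 325, 975]

def wY : Fin 7 → List ℕ := ![[], [3, 3, 0], [3, 0], [1, 2], [2], [0, 0, 2], [1]]

def aY₁ : Fin 7 → ℚ := ![1, -1/3, -1/15, -1/15, 1/5, 1/5, -1/15]
def aY₂ : Fin 7 → ℚ := ![0, 0, 4/15, -4/15, 0, 0, 0]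

def LY₁ : Fin 7 → Fin 7 → ℚ := ![![0, 0, 0, 0, 0, 0, 0],
  ![1193/1538160, 327/78880, 185/25636, 285/25636, -305/31552, -305/31552, 0], ![1/300, 0, 0, 0, 0, 0, 0],
  ![-143/49300, 39/24650, -5/986, 36/2465, -13/4930, -13/4930, 0],
  ![-79/150800, -63/78880, -1401/128180, 447/128180, 1109/157760, 129/31552, 0],
  ![-79/150800, -63/78880, -1401/128180, 447/128180, 129/31552, 1109/157760, 0],
  ![389/1922700, -121/98600, 294/32045, -276/32045, 71/39440, 71/39440, 0]]

def LY₂ : Fin 7 → Fin 7 → ℚ := ![![0, 0, 0, 0, 0, 0, 0],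
  ![5897/1538160, 237/19720, 345/51272, -375/25636, -55/15776, -55/15776, 0], ![0, 0, 0, 0, 0, 0, 0],
  ![407/295800, 403/197200, 2/145, 7/986, -897/78880, -897/78880, 0],
  ![-1237/512720, 411/197200, -57/19720, 813/128180, 91/19720, -141/19720, 0],
  ![-1237/512720, 411/197200, -57/19720, 813/128180, -141/19720, 91/19720, 0],
  ![428/480675, -317/98600, -83/12818, -4/2465, 13/2320, 13/2320, 0]]

private noncomputable def _root_.Cfsg.Agent.LsF.f2d71c3_5 : {f // @Cfsg.Agent.H805.K4.Tits.LY₁ = f} := ⟨_, by first | (delta Cfsg.Agent.H805.K4.Tits.LY₁; rewrite [Cfsg.Agent.LsF.vecCons_eq]; exact rfl) | exact rfl⟩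
private noncomputable def _root_.Cfsg.Agent.LsF.f2d71c3_6 : {f // @Cfsg.Agent.H805.K4.Tits.BY = f} := ⟨_, by first | (delta Cfsg.Agent.H805.K4.Tits.BY; rewrite [Cfsg.Agent.LsF.vecCons_eq]; exact rfl) | exact rfl⟩
private noncomputable def _root_.Cfsg.Agent.LsF.f2d71c3_7 : {f // @Cfsg.Agent.H805.K4.Tits.LY₂ = f} := ⟨_, by first | (delta Cfsg.Agent.H805.K4.Tits.LY₂; rewrite [Cfsg.Agent.LsF.vecCons_eq]; exact rfl) | exact rfl⟩
private noncomputable def _root_.Cfsg.Agent.LsF.f2d71c3_8 : {f // @Cfsg.Agent.H805.K4.Tits.aY₁ = f} := ⟨_, by first | (delta Cfsg.Agent.H805.K4.Tits.aY₁; rewrite [Cfsg.Agent.LsF.vecCons_eq]; exact rfl) | exact rfl⟩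
private noncomputable def _root_.Cfsg.Agent.LsF.f2d71c3_9 : {f // @Cfsg.Agent.H805.K4.Tits.aY₂ = f} := ⟨_, by first | (delta Cfsg.Agent.H805.K4.Tits.aY₂; rewrite [Cfsg.Agent.LsF.vecCons_eq]; exact rfl) | exact rfl⟩
theorem certY : Cert BY 0 aY₁ aY₂ (-20) 80 LY₁ LY₂ where
  one := by decide +kernel
  re := by decide +kernel
  im := by decide +kernel
  lre := by (refine of_decide_eq_true ?_; (try (rewrite [Cfsg.Agent.LsF.sumF_pat, Cfsg.Agent.LsF.f2d71c3_5.2, Cfsg.Agent.LsF.f2d71c3_6.2, Cfsg.Agent.LsF.f2d71c3_7.2, Cfsg.Agent.LsF.f2d71c3_8.2, Cfsg.Agent.LsF.dFinEq_eq, Cfsg.Agent.LsF.dForallFin_eq, Cfsg.Agent.LsF.ite_eq, Cfsg.Agent.LsF.decide_eq])); decide +kernel)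
  lim := by (refine of_decide_eq_true ?_; (try (rewrite [Cfsg.Agent.LsF.sumF_pat, Cfsg.Agent.LsF.f2d71c3_7.2, Cfsg.Agent.LsF.f2d71c3_6.2, Cfsg.Agent.LsF.f2d71c3_5.2, Cfsg.Agent.LsF.f2d71c3_9.2, Cfsg.Agent.LsF.dFinEq_eq, Cfsg.Agent.LsF.dForallFin_eq, Cfsg.Agent.LsF.ite_eq, Cfsg.Agent.LsF.decide_eq])); decide +kernel)

private noncomputable def _root_.Cfsg.Agent.LsF.f2d71c3_0 : {f // @Cfsg.Agent.Lib.BitNet.popc = f} := ⟨_, by first | (delta Cfsg.Agent.Lib.BitNet.popc Nat.brecOn.go Nat.brecOn Cfsg.Agent.Lib.BitNet.popc._f; rewrite [Cfsg.Agent.LsF.cond_eq]; (try delta Cfsg.Agent.Lib.BitNet.rep.match_1); (try delta Nat.casesOn); first | dsimp -zeta only | exact rfl) | exact rfl⟩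
private noncomputable def _root_.Cfsg.Agent.LsF.f2d71c3_10 : {f // @Cfsg.Agent.SporadicB.RuTits.gen = f} := ⟨_, by first | (delta Cfsg.Agent.SporadicB.RuTits.gen; rewrite [Cfsg.Agent.LsF.cond_eq, Cfsg.Agent.LsF.reverse_eq]; exact rfl) | exact rfl⟩
private noncomputable def _root_.Cfsg.Agent.LsF.f2d71c3_11 : {f // @Cfsg.Agent.H805.K4.Tits.net = f} := ⟨_, by first | (delta Cfsg.Agent.H805.K4.Tits.net List.brecOn List.brecOn.go Cfsg.Agent.H805.K4.Tits.net._f; rewrite [Cfsg.Agent.LsF.f2d71c3_10.2, Cfsg.Agent.LsF.lappend_pat]; (try delta Cfsg.Agent.H805.K4.Tits.net.match_1); (try delta List.casesOn); first | dsimp -zeta only | exact rfl) | exact rfl⟩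
private noncomputable def _root_.Cfsg.Agent.LsF.f2d71c3_12 : {f // @Cfsg.Agent.H805.K4.Tits.wY = f} := ⟨_, by first | (delta Cfsg.Agent.H805.K4.Tits.wY; rewrite [Cfsg.Agent.LsF.vecCons_eq]; exact rfl) | exact rfl⟩
private noncomputable def _root_.Cfsg.Agent.LsF.f2d71c3_18 : {f // @Cfsg.Agent.H805.K4.Tits.kY = f} := ⟨_, by first | (delta Cfsg.Agent.H805.K4.Tits.kY; rewrite [Cfsg.Agent.LsF.vecCons_eq]; exact rfl) | exact rfl⟩
theorem deg_27 : ∃ χ : IrrCharacter T, charDegree (χ : T → ℂ) = 27 :=
  deg Y 2 BY kY wY (by decide +kernel) (by (refine of_decide_eq_true ?_; (try (rewrite [Cfsg.Agent.LsF.f2d71c3_0.2, Cfsg.Agent.LsF.f2d71c3_11.2, Cfsg.Agent.LsF.f2d71c3_12.2, Cfsg.Agent.LsF.f2d71c3_6.2, Cfsg.Agent.LsF.dBoolEq_eq, Cfsg.Agent.LsF.dForallFin_eq, Cfsg.Agent.LsF.decide_eq])); decide +kernel)) (by (refine of_decide_eq_true ?_; (try (rewrite [Cfsg.Agent.LsF.f2d71c3_0.2, Cfsg.Agent.LsF.f2d71c3_18.2, Cfsg.Agent.LsF.dBoolEq_eq, Cfsg.Agent.LsF.dForallFin_eq, Cfsg.Agent.LsF.decide_eq])); decide +kernel)) (by decide +kernel) aY₁ aY₂ (-20) 80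
    LY₁ LY₂ certY 27 2304 (by decide +kernel) (by decide +kernel)

/-! ### the orbit of length 1755 -/

theorem cmX_sub : ∀ i, Nat.beq (Nat.land (H707.RowTitsModel.cm i) (row 0)) (H707.RowTitsModel.cm i) = true := by
  decide +kernel

/-- The orbit of length 1755. -/
def X : Orb T 5 where
  m := row 0
  p := p1
  cm := H707.RowTitsModel.cm
  ry i := ⟨H707.RowTitsModel.ry i, H707.RowTitsModel.ry_lt i⟩
  c0 := 0
  m_inv g hg x := H707.RowTitsModel.T_row hg x
  trans := by
    intro x hx
    have h2 : x ∈ orbit T p1 := by
      rw [H707.RowTitsModel.orbit_eq]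
      exact hx
    obtain ⟨g, hg⟩ := h2
    exact ⟨g.1, g.2, hg⟩
  p_mem := by
    have := H707.RowTitsModel.ry_row 0
    rwa [tb_eq] at this
  disj i j x hi hj := H707.RowTitsModel.class_unique hi hj
  cover x hx := H707.RowTitsModel.exists_class' x hx
  sub i x hx := sub_of (cmX_sub i) hx
  c0_mem := by
    have := H707.RowTitsModel.ry_cm 0
    rwa [tb_eq] at this
  ry_mem i := by
    have := H707.RowTitsModel.ry_cm i
    rwa [tb_eq] at this
  inv g hg hp i x := H707.RowTitsModel.inv i hg hp x
  orb := by
    intro i x hx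
    obtain ⟨k, hk⟩ := H707.RowTitsModel.orb_i i
    obtain ⟨g, hg, hgx⟩ := exists_of_iterF
      (b := ⟨H707.RowTitsModel.ry i, H707.RowTitsModel.ry_lt i⟩) gensT1 hk hx
    exact ⟨g, hg.1, hg.2, hgx⟩

def BX : Fin 5 → Fin 5 → ℕ := ![![0, 10, 0, 0, 0], ![1, 1, 8, 0, 0], ![0, 1, 1, 8, 0], ![0, 0, 1, 1, 8],
  ![0, 0, 0, 5, 5]]

def kX : Fin 5 → ℕ := ![1, 10, 80, 640, 1024]

def wX : Fin 5 → List ℕ := ![[], [0], [0, 3], [0, 0, 2, 2, 2, 0, 0, 0, 0], [0, 3, 3, 0, 2, 0]]

private noncomputable def _root_.Cfsg.Agent.LsF.f2d71c3_21 : {f // @Cfsg.Agent.H805.K4.Tits.kX = f} := ⟨_, by first | (delta Cfsg.Agent.H805.K4.Tits.kX; rewrite [Cfsg.Agent.LsF.vecCons_eq]; exact rfl) | exact rfl⟩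
theorem degX (a : Fin 5 → ℚ) (t : ℚ) (L : Fin 5 → Fin 5 → ℚ) (hC : Cert BX 0 a 0 t 0 L 0) (d : ℕ)
    (hd : (d : ℚ) * ∑ j, (kX j : ℚ) * (a j * a j + (0 : Fin 5 → ℚ) j * (0 : Fin 5 → ℚ) j) = (1755 : ℕ)) :
    ∃ χ : IrrCharacter T, charDegree (χ : T → ℂ) = d :=
  deg X 1 BX kX wX (by decide +kernel) (by decide +kernel) (by (refine of_decide_eq_true ?_; (try (rewrite [Cfsg.Agent.LsF.f2d71c3_0.2, Cfsg.Agent.LsF.f2d71c3_21.2, Cfsg.Agent.LsF.dBoolEq_eq, Cfsg.Agent.LsF.dForallFin_eq, Cfsg.Agent.LsF.decide_eq])); decide +kernel)) (by decide +kernel) a 0 t 0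
    L 0 hC d 1755 (by decide +kernel) hd

theorem deg_351 : ∃ χ : IrrCharacter T, charDegree (χ : T → ℂ) = 351 :=
  degX ![1, 1/2, 1/8, 0, -1/64] 5 ![![0, 0, 0, 0, 0], ![1/10, 0, 0, 0, 0], ![1/20, 1/8, 0, 0, 0],
    ![1/80, 1/16, 1/8, 0, 0], ![0, 1/64, 1/16, 1/8, 0]]
    ⟨by decide +kernel, by decide +kernel, by decide +kernel, by decide +kernel, by decide +kernel⟩ 351
    (by decide +kernel)

theorem deg_675 : ∃ χ : IrrCharacter T, charDegree (χ : T → ℂ) = 675 :=
  degX ![1, -3/10, 1/40, 1/40, -1/64] (-3) ![![0, 0, 0, 0, 0], ![1/10, 0, 0, 0, 0], ![-1/20, 1/8, 0, 0, 0],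
    ![1/80, -1/16, 1/8, 0, 0], ![0, 1/64, -1/16, 1/8, 0]]
    ⟨by decide +kernel, by decide +kernel, by decide +kernel, by decide +kernel, by decide +kernel⟩ 675
    (by decide +kernel)

end Cfsg.Agent.H805.K4.Tits
end

private theorem dce_e6e6718274f1 : _root_.True := by
  try have : _root_.True := by simp only [_root_.Cfsg.Agent.H805.K4.Tits.K.eq_1]
  exact _root_.True.intro
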